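import Mathlib
import Cfsg.Agent.Lib.Helper9.Wr.Klein

set_option autoImplicit false
set_option linter.unusedSectionVars false

/-!
# Coordinates in a dihedral group

For a group `S` with an isomorphism `e : S ≃* DihedralGroup m` we write `ρ e i`, `σ e i` for the
rotations and reflections of `S`.
-/

namespace Cfsg.Agent.Lib.Helper9.Dih

open DihedralGroup

open Cfsg.Agent.Lib.Helper9.QD (ncard_four_le mem_centralizer_singleton)

section Arith

variable {m : ℕ}

/-- the element `m/2` of `ZMod m` -/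
def hz (m : ℕ) : ZMod m := ((m / 2 : ℕ) : ZMod m)

theorem two_mul_hz (hm : Even m) : 2 * hz m = 0 := by
  unfold hz
  obtain ⟨k, rfl⟩ := hm
  have h1 : ((k + k) / 2 : ℕ) = k := by omega
  rw [h1]
  have h2 : (2 : ZMod (k + k)) * (k : ZMod (k + k)) = ((k + k : ℕ) : ZMod (k + k)) := by
    push_cast; ring
  rw [h2, ZMod.natCast_self]

theorem eq_zero_or_eq_hz [NeZero m] {j : ZMod m} (h : 2 * j = 0) : j = 0 ∨ j = hz m := by
  have h1 : ((2 * j.val : ℕ) : ZMod m) = 0 := by
    push_cast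
    rw [ZMod.natCast_zmod_val]
    exact h
  rw [ZMod.natCast_eq_zero_iff] at h1
  have hlt := ZMod.val_lt j
  obtain ⟨c, hc⟩ := h1
  have hc2 : c < 2 := by
    by_contra hge
    push Not at hge
    have : m * 2 ≤ m * c := Nat.mul_le_mul_left m hge
    omega
  interval_cases c
  · left
    have : j.val = 0 := by omega
    exact (ZMod.val_eq_zero j).mp this
  · right
    have : j.val = m / 2 := by omega
    unfold hz
    rw [← this, ZMod.natCast_zmod_val]

theorem hz_ne_zero (hm : Even m) (h2 : 2 ≤ m) : hz m ≠ 0 := by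
  unfold hz
  intro h0
  rw [ZMod.natCast_eq_zero_iff] at h0
  obtain ⟨k, rfl⟩ := hm
  have h1 : ((k + k) / 2 : ℕ) = k := by omega
  rw [h1] at h0
  have := Nat.le_of_dvd (by omega) h0
  omega

end Arith

variable {S : Type*} [Group S] {m : ℕ}

/-- rotations -/
def ρ (e : S ≃* DihedralGroup m) (i : ZMod m) : S := e.symm (r i)

/-- reflections -/
def σ (e : S ≃* DihedralGroup m) (i : ZMod m) : S := e.symm (sr i)

variable (e : S ≃* DihedralGroup m)

theorem ρ_mul_ρ (i j : ZMod m) : ρ e i * ρ e j = ρ e (i + j) := by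
  unfold ρ; rw [← map_mul, r_mul_r]

theorem ρ_mul_σ (i j : ZMod m) : ρ e i * σ e j = σ e (j - i) := by
  unfold ρ σ; rw [← map_mul, r_mul_sr]

theorem σ_mul_ρ (i j : ZMod m) : σ e i * ρ e j = σ e (i + j) := by
  unfold ρ σ; rw [← map_mul, sr_mul_r]

theorem σ_mul_σ (i j : ZMod m) : σ e i * σ e j = ρ e (j - i) := by
  unfold ρ σ; rw [← map_mul, sr_mul_sr]

theorem ρ_zero : ρ e 0 = 1 := by
  unfold ρ; rw [r_zero, map_one]

theorem ρ_inv (i : ZMod m) : (ρ e i)⁻¹ = ρ e (-i) := by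
  unfold ρ; rw [← map_inv, inv_r]

theorem σ_inv (i : ZMod m) : (σ e i)⁻¹ = σ e i := by
  unfold σ; rw [← map_inv, inv_sr]

theorem cases (g : S) : (∃ i : ZMod m, g = ρ e i) ∨ (∃ i : ZMod m, g = σ e i) := by
  have h : g = e.symm (e g) := (e.symm_apply_apply g).symm
  cases hg : e g with
  | r i => left; exact ⟨i, by rw [h, hg]; rfl⟩
  | sr i => right; exact ⟨i, by rw [h, hg]; rfl⟩

theorem ρ_inj {i j : ZMod m} : ρ e i = ρ e j ↔ i = j := by
  unfold ρ
  rw [e.symm.injective.eq_iff]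
  constructor
  · intro h; injection h
  · rintro rfl; rfl

theorem σ_inj {i j : ZMod m} : σ e i = σ e j ↔ i = j := by
  unfold σ
  rw [e.symm.injective.eq_iff]
  constructor
  · intro h; injection h
  · rintro rfl; rfl

theorem ρ_ne_σ (i j : ZMod m) : ρ e i ≠ σ e j := by
  unfold ρ σ
  intro h
  have := e.symm.injective h
  cases this

theorem ρ_eq_one {i : ZMod m} : ρ e i = 1 ↔ i = 0 := by
  rw [← ρ_zero e, ρ_inj]

theorem σ_ne_one (i : ZMod m) : σ e i ≠ 1 := by
  rw [← ρ_zero e]; exact (ρ_ne_σ e 0 i).symm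

theorem σ_mul_self (i : ZMod m) : σ e i * σ e i = 1 := by
  rw [σ_mul_σ, sub_self, ρ_zero]

theorem orderOf_σ (i : ZMod m) : orderOf (σ e i) = 2 := by
  unfold σ
  rw [MulEquiv.orderOf_eq, orderOf_sr]

theorem orderOf_ρ_one : orderOf (ρ e 1) = m := by
  unfold ρ
  rw [MulEquiv.orderOf_eq, orderOf_r_one]

theorem ρ_pow (i : ZMod m) (k : ℕ) : (ρ e i) ^ k = ρ e (i * k) := by
  unfold ρ; rw [← map_pow, r_pow]

theorem conj_ρ_σ (a i : ZMod m) : ρ e a * σ e i * (ρ e a)⁻¹ = σ e (i - 2 * a) := by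
  rw [ρ_mul_σ, ρ_inv, σ_mul_ρ]
  congr 1; ring

theorem conj_σ_σ (j i : ZMod m) : σ e j * σ e i * (σ e j)⁻¹ = σ e (2 * j - i) := by
  rw [σ_mul_σ, σ_inv, ρ_mul_σ]
  congr 1; ring

theorem conj_ρ_ρ (a i : ZMod m) : ρ e a * ρ e i * (ρ e a)⁻¹ = ρ e i := by
  rw [ρ_mul_ρ, ρ_inv, ρ_mul_ρ]
  congr 1; ring

theorem conj_σ_ρ (j i : ZMod m) : σ e j * ρ e i * (σ e j)⁻¹ = ρ e (-i) := by
  rw [σ_mul_ρ, σ_inv, σ_mul_σ]
  congr 1; ring

theorem mem_zpowers_ρ_one_iff [NeZero m] {g : S} :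
    g ∈ Subgroup.zpowers (ρ e 1) ↔ ∃ i : ZMod m, g = ρ e i := by
  constructor
  · intro hg
    obtain ⟨k, rfl⟩ := Subgroup.mem_zpowers_iff.mp hg
    refine ⟨(k : ZMod m), ?_⟩
    unfold ρ
    rw [← map_zpow, r_one_zpow]
  · rintro ⟨i, rfl⟩
    have h1 : ρ e i = (ρ e 1) ^ i.val := by
      rw [ρ_pow, one_mul, ZMod.natCast_zmod_val]
    rw [h1]
    exact Subgroup.pow_mem _ (Subgroup.mem_zpowers _) _

theorem σ_not_mem_zpowers [NeZero m] (i : ZMod m) : σ e i ∉ Subgroup.zpowers (ρ e 1) := by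
  rw [mem_zpowers_ρ_one_iff]
  rintro ⟨j, hj⟩
  exact ρ_ne_σ e j i hj.symm

/-- centralizer of a reflection -/
theorem commute_σ_iff [NeZero m] (i : ZMod m) (g : S) :
    g * σ e i = σ e i * g ↔
      g = 1 ∨ g = ρ e (hz m) ∧ 2 * hz m = 0 ∨ g = σ e i ∨ g = σ e (i + hz m) ∧ 2 * hz m = 0 := by
  constructor
  · intro hc
    rcases cases e g with ⟨a, rfl⟩ | ⟨j, rfl⟩
    · rw [ρ_mul_σ, σ_mul_ρ, σ_inj] at hc
      have h2 : 2 * a = 0 := by linear_combination -hc
      rcases eq_zero_or_eq_hz h2 with h3 | h3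
      · left; rw [h3, ρ_zero]
      · right; left; rw [h3] at h2; exact ⟨by rw [h3], h2⟩
    · rw [σ_mul_σ, σ_mul_σ, ρ_inj] at hc
      have h2 : 2 * (j - i) = 0 := by linear_combination -hc
      rcases eq_zero_or_eq_hz h2 with h3 | h3
      · right; right; left; rw [sub_eq_zero.mp h3]
      · right; right; right
        rw [h3] at h2
        refine ⟨?_, h2⟩
        congr 1; linear_combination h3
  · rintro (rfl | ⟨rfl, h2⟩ | rfl | ⟨rfl, h2⟩)
    · simp
    · rw [ρ_mul_σ, σ_mul_ρ, σ_inj]; linear_combination -h2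
    · rfl
    · rw [σ_mul_σ, σ_mul_σ, ρ_inj]; linear_combination -h2

theorem mem_centralizer_σ [NeZero m] (hm : Even m) (i : ZMod m) (g : S) :
    g ∈ Subgroup.centralizer ({σ e i} : Set S) ↔
      g = 1 ∨ g = ρ e (hz m) ∨ g = σ e i ∨ g = σ e (i + hz m) := by
  rw [mem_centralizer_singleton, commute_σ_iff]
  have h2 := two_mul_hz hm
  constructor
  · rintro (h | ⟨h, -⟩ | h | ⟨h, -⟩)
    · exact Or.inl h
    · exact Or.inr (Or.inl h)
    · exact Or.inr (Or.inr (Or.inl h))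
    · exact Or.inr (Or.inr (Or.inr h))
  · rintro (h | h | h | h)
    · exact Or.inl h
    · exact Or.inr (Or.inl ⟨h, h2⟩)
    · exact Or.inr (Or.inr (Or.inl h))
    · exact Or.inr (Or.inr (Or.inr ⟨h, h2⟩))

theorem card_centralizer_σ_le [NeZero m] [Finite S] (i : ZMod m) :
    Nat.card (Subgroup.centralizer ({σ e i} : Set S)) ≤ 4 := by
  have hsub : ((Subgroup.centralizer ({σ e i} : Set S) : Subgroup S) : Set S) ⊆
      {1, ρ e (hz m), σ e i, σ e (i + hz m)} := by
    intro g hg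
    have hg' : g ∈ Subgroup.centralizer ({σ e i} : Set S) := hg
    rw [mem_centralizer_singleton, commute_σ_iff] at hg'
    rcases hg' with h | ⟨h, -⟩ | h | ⟨h, -⟩ <;> simp [h]
  have h1 := Set.ncard_le_ncard hsub (Set.toFinite _)
  have h2 := ncard_four_le (1 : S) (ρ e (hz m)) (σ e i) (σ e (i + hz m))
  rw [← Nat.card_coe_set_eq] at h1
  exact le_trans h1 h2

/-- every Klein four-subgroup is the centralizer of one of its reflections -/
theorem klein_eq [NeZero m] [Finite S] (T : Subgroup S) (hT : IsKleinFour T) :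
    ∃ i : ZMod m, T = Subgroup.centralizer ({σ e i} : Set S) := by
  have hsq : ∀ t ∈ T, t * t = 1 := fun t ht => Wr.sq_eq_one_of_isKleinFour T hT ht
  have hcomm : ∀ s ∈ T, ∀ t ∈ T, s * t = t * s := fun s hs t ht => Wr.comm_of_isKleinFour T hT hs ht
  have hex : ∃ t ∈ T, ∀ j : ZMod m, t ≠ ρ e j := by
    by_contra hcon
    push Not at hcon
    -- all elements of `T` are rotations with `2 j = 0`
    have hsub : (T : Set S) ⊆ {1, ρ e (hz m)} := by
      intro t ht
      obtain ⟨j, rfl⟩ := hcon t ht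
      have h1 := hsq _ ht
      rw [ρ_mul_ρ, ρ_eq_one] at h1
      have h2 : 2 * j = 0 := by linear_combination h1
      rcases eq_zero_or_eq_hz h2 with rfl | rfl
      · simp [ρ_zero]
      · simp
    have h1 := Set.ncard_le_ncard hsub (Set.toFinite _)
    have h2 : ({1, ρ e (hz m)} : Set S).ncard ≤ 2 := Set.ncard_insert_le _ _ |>.trans (by simp)
    rw [← Nat.card_coe_set_eq] at h1
    have h3 : Nat.card T = 4 := hT.card_four
    have h4 : Nat.card (T : Set S) = Nat.card T := rfl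
    omega
  obtain ⟨t, ht, htx⟩ := hex
  rcases cases e t with ⟨i, rfl⟩ | ⟨i, rfl⟩
  · exact absurd rfl (htx i)
  · refine ⟨i, ?_⟩
    apply Subgroup.eq_of_le_of_card_ge
    · intro g hg
      rw [mem_centralizer_singleton]
      exact hcomm g hg _ ht
    · rw [hT.card_four]
      exact card_centralizer_σ_le e i

include e in
theorem klein_centralizer [NeZero m] [Finite S] (T : Subgroup S) (hT : IsKleinFour T) :
    Subgroup.centralizer (T : Set S) = T := by
  obtain ⟨i, hTi⟩ := klein_eq e T hT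
  have hmem : σ e i ∈ T := by
    rw [hTi, mem_centralizer_singleton]
  apply le_antisymm
  · have : Subgroup.centralizer (T : Set S) ≤ Subgroup.centralizer ({σ e i} : Set S) :=
      Subgroup.centralizer_le (by simpa using hmem)
    rwa [← hTi] at this
  · intro g hg
    rw [Subgroup.mem_centralizer_iff]
    intro t ht
    exact Wr.comm_of_isKleinFour T hT ht hg

end Cfsg.Agent.Lib.Helper9.Dih
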