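import Mathlib
import Cfsg.Agent.Lib.Helper9.Dih.Basic
import Cfsg.Agent.Lib.Helper9.QD.SubAut

set_option autoImplicit false
set_option linter.unusedSectionVars false

/-!
# Dihedral 2-groups
-/

namespace Cfsg.Agent.Lib.Helper9.Dih

open DihedralGroup

open Cfsg.Agent.Lib.Helper9.QD (Mz Kz two_mul_Mz two_mul_Kz Mz_ne_zero eq_zero_or_eq_Mz_of_two_mul
  neg_Mz orderOf_eq_two_iff' mem_centralizer_singleton coe_mem_zpowers_iff
  isPGroup_mulAut_of_subsingleton)

theorem mem_zpowers_of_sq {G : Type*} [Group G] {c d : G} (hc : c * c = 1)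
    (hd : d ∈ Subgroup.zpowers c) : d = 1 ∨ d = c := by
  obtain ⟨k, rfl⟩ := Subgroup.mem_zpowers_iff.mp hd
  have h2 : c ^ (2 : ℤ) = 1 := by rw [zpow_two]; exact hc
  rcases Int.even_or_odd' k with ⟨m, rfl | rfl⟩
  · left
    rw [zpow_mul, h2, one_zpow]
  · right
    rw [zpow_add, zpow_mul, h2, one_zpow, one_mul, zpow_one]

variable {S : Type*} [Group S] {n : ℕ} (e : S ≃* DihedralGroup (2 ^ n))

include e in
theorem card_eq : Nat.card S = 2 ^ (n + 1) := by
  rw [Nat.card_congr e.toEquiv, DihedralGroup.nat_card, pow_succ']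

theorem hz_eq_Mz (hn : 1 ≤ n) : hz (2 ^ n) = Mz n := by
  unfold hz Mz
  congr 1
  obtain ⟨k, rfl⟩ : ∃ k, n = k + 1 := ⟨n - 1, by omega⟩
  rw [pow_succ, Nat.mul_div_cancel _ (by norm_num : 0 < 2)]
  rfl

theorem even_two_pow (hn : 1 ≤ n) : Even (2 ^ n) := by
  obtain ⟨k, rfl⟩ : ∃ k, n = k + 1 := ⟨n - 1, by omega⟩
  rw [pow_succ]; exact even_two.mul_left _

theorem ζ_central (hn : 1 ≤ n) (g : S) : g * ρ e (Mz n) * g⁻¹ = ρ e (Mz n) := by
  rcases cases e g with ⟨a, rfl⟩ | ⟨j, rfl⟩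
  · exact conj_ρ_ρ e a _
  · rw [conj_σ_ρ, neg_Mz hn]

theorem ζ_comm (hn : 1 ≤ n) (g : S) : g * ρ e (Mz n) = ρ e (Mz n) * g := by
  have := ζ_central e hn g
  rw [← this, inv_mul_cancel_right, this]

theorem orderOf_ρ_eq_two (hn : 1 ≤ n) {i : ZMod (2 ^ n)} : orderOf (ρ e i) = 2 ↔ i = Mz n := by
  rw [orderOf_eq_two_iff', ρ_mul_ρ, ρ_eq_one, Ne, ρ_eq_one]
  constructor
  · rintro ⟨h1, h2⟩
    have : 2 * i = 0 := by linear_combination h1
    rcases eq_zero_or_eq_Mz_of_two_mul hn this with h3 | h3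
    · exact absurd h3 h2
    · exact h3
  · rintro rfl
    refine ⟨?_, Mz_ne_zero hn⟩
    have := two_mul_Mz (n := n) hn
    linear_combination this

theorem orderOf_ζ (hn : 1 ≤ n) : orderOf (ρ e (Mz n)) = 2 := (orderOf_ρ_eq_two e hn).mpr rfl

theorem involution_cases (hn : 1 ≤ n) (t : S) (ht : orderOf t = 2) :
    t = ρ e (Mz n) ∨ ∃ i : ZMod (2 ^ n), t = σ e i := by
  rcases cases e t with ⟨i, rfl⟩ | ⟨i, rfl⟩
  · left; rw [(orderOf_ρ_eq_two e hn).mp ht]
  · right; exact ⟨i, rfl⟩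

theorem mem_centralizer_σ' (hn : 1 ≤ n) (i : ZMod (2 ^ n)) (g : S) :
    g ∈ Subgroup.centralizer ({σ e i} : Set S) ↔
      g = 1 ∨ g = ρ e (Mz n) ∨ g = σ e i ∨ g = σ e (i + Mz n) := by
  rw [mem_centralizer_σ e (even_two_pow hn), hz_eq_Mz hn]

theorem isKleinFour_centralizer_σ (hn : 1 ≤ n) (i : ZMod (2 ^ n)) :
    IsKleinFour (Subgroup.centralizer ({σ e i} : Set S)) := by
  have hM := two_mul_Mz (n := n) hn
  have hM0 := Mz_ne_zero (n := n) hn
  apply Wr.isKleinFour_of_mem_iff _ (ρ e (Mz n)) (σ e i) (σ e (i + Mz n))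
  · rw [Ne, ρ_eq_one]; exact hM0
  · exact σ_ne_one e _
  · exact σ_ne_one e _
  · exact ρ_ne_σ e _ _
  · exact ρ_ne_σ e _ _
  · rw [Ne, σ_inj]; intro h1; apply hM0; linear_combination -h1
  · rw [ρ_mul_ρ, ρ_eq_one]; linear_combination hM
  · exact σ_mul_self e _
  · exact σ_mul_self e _
  · exact mem_centralizer_σ' e hn i

theorem isConj_σ_add_two_mul (i c : ZMod (2 ^ n)) : IsConj (σ e i) (σ e (i + 2 * c)) := by
  rw [isConj_iff]
  refine ⟨ρ e (-c), ?_⟩
  rw [conj_ρ_σ]
  congr 1; ring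

theorem conj_Kz (hn : 2 ≤ n) (i : ZMod (2 ^ n)) :
    ρ e (Kz n) * σ e i * (ρ e (Kz n))⁻¹ = σ e (i + Mz n) := by
  rw [conj_ρ_σ]
  congr 1
  have hK := two_mul_Kz (n := n) hn
  have hM := two_mul_Mz (n := n) (by omega)
  linear_combination -hK - hM

include e in
theorem exists_orderOf_eq_two_pow [Finite S] (g : S) : ∃ k, orderOf g = 2 ^ k := by
  have h1 : orderOf g ∣ Nat.card S := orderOf_dvd_natCard g
  rw [card_eq e] at h1
  obtain ⟨k, -, hk⟩ := (Nat.dvd_prime_pow Nat.prime_two).mp h1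
  exact ⟨k, hk⟩

/-- a generator of `H ∩ ⟨ρ 1⟩` -/
theorem exists_rot_generator [Finite S] (H : Subgroup S) :
    ∃ r ∈ H ⊓ Subgroup.zpowers (ρ e 1), ∀ g ∈ H ⊓ Subgroup.zpowers (ρ e 1),
      g ∈ Subgroup.zpowers r := by
  obtain ⟨⟨r, hr⟩, hmax⟩ :=
    Finite.exists_max (fun g : ↥(H ⊓ Subgroup.zpowers (ρ e 1)) => orderOf (g : S))
  refine ⟨r, hr, ?_⟩
  intro g hg
  have h1 : orderOf g ≤ orderOf r := hmax ⟨g, hg⟩
  obtain ⟨a, ha⟩ := exists_orderOf_eq_two_pow e g
  obtain ⟨b, hb⟩ := exists_orderOf_eq_two_pow e r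
  have hab : a ≤ b := by
    rw [ha, hb] at h1
    exact (Nat.pow_le_pow_iff_right (by norm_num)).mp h1
  apply Cfsg.Agent.Lib.Helper10.mem_zpowers_of_orderOf_dvd' (Subgroup.zpowers (ρ e 1))
    inferInstance hg.2 hr.2
  rw [ha, hb]
  exact pow_dvd_pow 2 hab

include e in
/-- every subgroup of a dihedral 2-group is a four-group or has a 2-group of automorphisms -/
theorem subgroup_dichotomy [Finite S] (hn : 1 ≤ n) (H : Subgroup S) :
    IsKleinFour H ∨ IsPGroup 2 (MulAut H) := by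
  have hM := two_mul_Mz (n := n) hn
  have hM0 := Mz_ne_zero (n := n) hn
  obtain ⟨r, hr, hgen⟩ := exists_rot_generator e H
  obtain ⟨d, rfl⟩ := (mem_zpowers_ρ_one_iff e).mp hr.2
  have hrH : ρ e d ∈ H := hr.1
  obtain ⟨k, hk⟩ := exists_orderOf_eq_two_pow e (ρ e d)
  have hrot : ∀ i : ZMod (2 ^ n), ρ e i ∈ H → ρ e i ∈ Subgroup.zpowers (ρ e d) :=
    fun i hi => hgen _ ⟨hi, (mem_zpowers_ρ_one_iff e).mpr ⟨i, rfl⟩⟩
  have hrefl : ∀ i j : ZMod (2 ^ n), σ e i ∈ H → σ e j ∈ H →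
      (σ e i)⁻¹ * σ e j ∈ Subgroup.zpowers (ρ e d) := by
    intro i j hi hj
    have h1 : (σ e i)⁻¹ * σ e j ∈ H := H.mul_mem (H.inv_mem hi) hj
    rw [σ_inv, σ_mul_σ] at h1 ⊢
    exact hrot _ h1
  have hidx : ∀ g g' : H, g ∉ Subgroup.zpowers (⟨ρ e d, hrH⟩ : H) →
      g' ∉ Subgroup.zpowers (⟨ρ e d, hrH⟩ : H) →
      g⁻¹ * g' ∈ Subgroup.zpowers (⟨ρ e d, hrH⟩ : H) := by
    rintro ⟨g, hg⟩ ⟨g', hg'⟩ hgn hgn'
    rw [coe_mem_zpowers_iff] at hgn hgn' ⊢
    simp only [Subgroup.coe_mul, Subgroup.coe_inv] at hgn hgn' ⊢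
    rcases cases e g with ⟨i, rfl⟩ | ⟨i, rfl⟩
    · exact absurd (hrot i hg) hgn
    rcases cases e g' with ⟨j, rfl⟩ | ⟨j, rfl⟩
    · exact absurd (hrot j hg') hgn'
    exact hrefl i j hg hg'
  by_cases hex : ∃ i : ZMod (2 ^ n), σ e i ∈ H ∧ k = 1
  · obtain ⟨i, hiH, hk1⟩ := hex
    left
    subst hk1
    rw [pow_one, orderOf_ρ_eq_two e hn] at hk
    subst hk
    have hz : ∀ g : S, g ∈ Subgroup.zpowers (ρ e (Mz n)) ↔ g = 1 ∨ g = ρ e (Mz n) := by
      intro g
      constructor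
      · intro hg
        have hsq : ρ e (Mz n) * ρ e (Mz n) = 1 := by
          rw [ρ_mul_ρ, ρ_eq_one]; linear_combination hM
        exact mem_zpowers_of_sq hsq hg
      · rintro (rfl | rfl)
        · exact one_mem _
        · exact Subgroup.mem_zpowers _
    have hHeq : H = Subgroup.centralizer ({σ e i} : Set S) := by
      ext g
      rw [mem_centralizer_σ' e hn]
      constructor
      · intro hg
        rcases cases e g with ⟨j, rfl⟩ | ⟨j, rfl⟩
        · rcases (hz _).mp (hrot j hg) with h1 | h1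
          · exact Or.inl h1
          · exact Or.inr (Or.inl h1)
        · have h1 := hrefl i j hiH hg
          rw [σ_inv, σ_mul_σ] at h1
          rcases (hz _).mp h1 with h2 | h2
          · rw [ρ_eq_one] at h2
            right; right; left
            rw [sub_eq_zero.mp h2]
          · rw [ρ_inj] at h2
            right; right; right
            congr 1; linear_combination h2
      · rintro (rfl | rfl | rfl | rfl)
        · exact H.one_mem
        · exact hrH
        · exact hiH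
        · have : σ e (i + Mz n) = σ e i * ρ e (Mz n) := by rw [σ_mul_ρ]
          rw [this]; exact H.mul_mem hiH hrH
    rw [hHeq]
    exact isKleinFour_centralizer_σ e hn i
  · push Not at hex
    right
    by_cases hk0 : k = 0
    · subst hk0
      rw [pow_zero, orderOf_eq_one_iff] at hk
      have hrot1 : ∀ i : ZMod (2 ^ n), ρ e i ∈ H → ρ e i = 1 := by
        intro i hi
        have := hrot i hi
        rw [hk, Subgroup.zpowers_one_eq_bot, Subgroup.mem_bot] at this
        exact this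
      by_cases hsr : ∃ i : ZMod (2 ^ n), σ e i ∈ H
      · obtain ⟨i, hi⟩ := hsr
        have hall : ∀ g ∈ H, g ∈ Subgroup.zpowers (σ e i) := by
          intro g hg
          rcases cases e g with ⟨j, rfl⟩ | ⟨j, rfl⟩
          · rw [hrot1 j hg]; exact one_mem _
          · have h1 := hrefl i j hi hg
            rw [hk, Subgroup.zpowers_one_eq_bot, Subgroup.mem_bot] at h1
            have : σ e j = σ e i := by
              have e' : σ e j = σ e i * ((σ e i)⁻¹ * σ e j) := by group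
              rw [e', h1, mul_one]
            rw [this]; exact Subgroup.mem_zpowers _
        apply Cfsg.Agent.H26.isPGroup_two_mulAut_of_cyclic_index_two (⟨σ e i, hi⟩ : H) 1
          (by norm_num) (by rw [Subgroup.orderOf_mk, orderOf_σ, pow_one])
        · rintro ⟨g, hg⟩ hgn
          exfalso
          apply hgn
          rw [coe_mem_zpowers_iff]
          exact hall g hg
        · rintro ⟨g, hg⟩ ⟨g', hg'⟩ hgn
          exfalso
          apply hgn
          rw [coe_mem_zpowers_iff]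
          exact hall g hg
      · push Not at hsr
        have : Subsingleton H := by
          constructor
          rintro ⟨a, ha⟩ ⟨b, hb⟩
          apply Subtype.ext
          simp only
          have h1 : ∀ g ∈ H, g = 1 := by
            intro g hg
            rcases cases e g with ⟨j, rfl⟩ | ⟨j, rfl⟩
            · exact hrot1 j hg
            · exact absurd hg (hsr j)
          rw [h1 a ha, h1 b hb]
        exact isPGroup_mulAut_of_subsingleton 2
    · apply Cfsg.Agent.H26.isPGroup_two_mulAut_of_cyclic_index_two (⟨ρ e d, hrH⟩ : H) k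
        (Nat.pos_of_ne_zero hk0) (by rw [Subgroup.orderOf_mk, hk]) ?_ hidx
      rintro ⟨g, hg⟩ hgn
      rw [coe_mem_zpowers_iff] at hgn
      simp only at hgn
      rw [Subgroup.orderOf_mk, Subgroup.orderOf_mk, hk]
      rcases cases e g with ⟨j, rfl⟩ | ⟨j, rfl⟩
      · exact absurd (hrot j hg) hgn
      · rw [orderOf_σ]
        intro h2
        have hk1 : k = 1 := by
          have : (2 : ℕ) ^ 1 = 2 ^ k := by rw [pow_one]; exact h2
          exact (Nat.pow_right_injective (le_refl 2) this).symm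
        exact hex j hg hk1

/-- a subgroup containing two adjacent reflections is everything -/
theorem eq_top_of_mem (N : Subgroup S) (h0 : σ e 0 ∈ N) (h1 : σ e 1 ∈ N) : N = ⊤ := by
  have hx : ρ e 1 ∈ N := by
    have : ρ e (1 : ZMod (2 ^ n)) = σ e 0 * σ e 1 := by
      rw [σ_mul_σ, sub_zero]
    rw [this]; exact N.mul_mem h0 h1
  rw [eq_top_iff]
  intro g _
  have hR : ∀ i : ZMod (2 ^ n), ρ e i ∈ N := by
    intro i
    have : ρ e i = (ρ e 1) ^ i.val := by
      rw [ρ_pow, one_mul, ZMod.natCast_zmod_val]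
    rw [this]; exact N.pow_mem hx _
  rcases cases e g with ⟨i, rfl⟩ | ⟨i, rfl⟩
  · exact hR i
  · have : σ e i = σ e 0 * ρ e i := by rw [σ_mul_ρ, zero_add]
    rw [this]; exact N.mul_mem h0 (hR i)

end Cfsg.Agent.Lib.Helper9.Dih
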