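import Mathlib
import Cfsg.Agent.Lib.Helper9.Dih.TwoPow
import Cfsg.Agent.Lib.Helper9.QD.Case26b
import Cfsg.Agent.Lib.Helper9.IndexTwo
import Cfsg.Agent.Lib.Helper9.AutIndex
import Cfsg.Agent.Lib.Helper9.Isolated

set_option autoImplicit false
set_option linter.unusedSectionVars false

/-!
# Groups with dihedral Sylow 2-subgroups: fusion of involutions
-/

namespace Cfsg.Agent.Lib.Helper9.Dih

open DihedralGroup

open Cfsg.Agent.Lib.Helper9

open Cfsg.Agent.Lib.Helper9.QD (Mz Kz two_mul_Mz two_mul_Kz Mz_ne_zero eq_zero_or_eq_Mz_of_two_mul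
  neg_Mz orderOf_eq_two_iff' mem_centralizer_singleton isConj_coe not_sylow_le_of_index_two
  exists_odd_not_mem_of_relIndex_six)

/-- a dihedral `2`-group of order `2 m ≥ 4` has `m = 2 ^ n` with `n ≥ 1` -/
theorem exists_two_pow {S : Type*} [Group S] (hS : IsPGroup 2 S) {m : ℕ} (hm : 2 ≤ m)
    (e : S ≃* DihedralGroup m) : ∃ n : ℕ, 1 ≤ n ∧ m = 2 ^ n := by
  have : NeZero m := ⟨by omega⟩
  have : Finite S := Finite.of_equiv _ e.symm.toEquiv
  obtain ⟨k, hk⟩ := IsPGroup.iff_card.mp hS
  rw [Nat.card_congr e.toEquiv, DihedralGroup.nat_card] at hk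
  obtain ⟨k, rfl⟩ : ∃ k', k = k' + 1 := by
    rcases k with _ | k
    · rw [pow_zero] at hk; omega
    · exact ⟨k, rfl⟩
  rw [pow_succ'] at hk
  have hm' : m = 2 ^ k := by omega
  refine ⟨k, ?_, hm'⟩
  rcases k with _ | k
  · rw [pow_zero] at hm'; omega
  · omega

section GLevel

variable {X : Type*} [Group X] [Finite X] (S : Sylow 2 X) {n : ℕ}
  (e : (S : Subgroup X) ≃* DihedralGroup (2 ^ n))

theorem orderOf_ζX (hn : 1 ≤ n) : orderOf ((ρ e (Mz n) : (S : Subgroup X)) : X) = 2 := by
  rw [Subgroup.orderOf_coe, orderOf_ζ e hn]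

theorem orderOf_σX (i : ZMod (2 ^ n)) : orderOf ((σ e i : (S : Subgroup X)) : X) = 2 := by
  rw [Subgroup.orderOf_coe, orderOf_σ]

/-- every involution of `X` is conjugate to the central involution of `S` or to a reflection -/
theorem involution_isConj (hn : 1 ≤ n) (t : X) (ht : orderOf t = 2) :
    IsConj ((ρ e (Mz n) : (S : Subgroup X)) : X) t ∨
    ∃ i : ZMod (2 ^ n), IsConj ((σ e i : (S : Subgroup X)) : X) t := by
  obtain ⟨c, hc⟩ := Cfsg.Agent.Lib.Helper13.exists_conj_mem_sylow S t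
    ⟨1, by rw [pow_one, ← ht]; exact pow_orderOf_eq_one t⟩
  have hts : IsConj t (c * t * c⁻¹) := isConj_iff.mpr ⟨c, rfl⟩
  have ho : orderOf (⟨c * t * c⁻¹, hc⟩ : (S : Subgroup X)) = 2 := by
    rw [← Subgroup.orderOf_coe]
    simp only
    rw [← ht]
    exact (MulAut.conj c).orderOf_eq t
  rcases involution_cases e hn _ ho with h1 | ⟨i, h1⟩
  · left
    have h2 := congrArg Subtype.val h1
    simp only at h2
    rw [← h2]
    exact hts.symm
  · right
    refine ⟨i, ?_⟩
    have h2 := congrArg Subtype.val h1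
    simp only at h2
    rw [← h2]
    exact hts.symm

theorem index_zpowers_ρ : (Subgroup.zpowers (ρ e 1)).index = 2 := by
  have h1 := Subgroup.card_mul_index (Subgroup.zpowers (ρ e 1))
  rw [Nat.card_zpowers, orderOf_ρ_one, card_eq e, pow_succ] at h1
  exact Nat.eq_of_mul_eq_mul_left (by positivity) h1

/-- Thompson transfer: without subgroups of index two, every reflection is fused to `ζ` -/
theorem isConj_ζ_σ_of_no_index_two (hn : 1 ≤ n) (hX : ∀ H : Subgroup X, H.index ≠ 2)
    (i : ZMod (2 ^ n)) :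
    IsConj ((ρ e (Mz n) : (S : Subgroup X)) : X) ((σ e i : (S : Subgroup X)) : X) := by
  have hev : Even (Nat.card X) := by
    have h1 : Nat.card (S : Subgroup X) ∣ Nat.card X := Subgroup.card_subgroup_dvd_card _
    rw [card_eq e] at h1
    exact even_iff_two_dvd.mpr (dvd_trans (dvd_pow_self 2 (by omega)) h1)
  have hMS : (Subgroup.zpowers (ρ e 1)).map (S : Subgroup X).subtype ≤ (S : Subgroup X) :=
    Subgroup.map_subtype_le _
  have hMi : ((Subgroup.zpowers (ρ e 1)).map (S : Subgroup X).subtype).relIndex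
      (S : Subgroup X) = 2 := by
    rw [IndexTwo.relIndex_map_subtype, index_zpowers_ρ]
  have hord : ∀ y' ∈ (S : Subgroup X),
      y' ∉ (Subgroup.zpowers (ρ e 1)).map (S : Subgroup X).subtype →
      2 ^ (1 - 1) < orderOf y' := by
    intro y' _ hy'
    have h1 : y' ≠ 1 := fun h0 => hy' (h0 ▸ Subgroup.one_mem _)
    have h2 : orderOf y' ≠ 1 := fun h0 => h1 (orderOf_eq_one_iff.mp h0)
    have h3 : 0 < orderOf y' := orderOf_pos y'
    simp only [Nat.sub_self, pow_zero]; omega
  obtain ⟨g, hg⟩ := Cfsg.Agent.S3225.result hev hX S _ hMS hMi 1 le_rfl hord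
    ((σ e i : (S : Subgroup X)) : X) (SetLike.coe_mem _)
    (by rw [pow_one]; exact orderOf_σX S e i)
  obtain ⟨r, hr, hrg⟩ := hg
  have : NeZero (2 ^ n) := ⟨by positivity⟩
  obtain ⟨j, rfl⟩ := (mem_zpowers_ρ_one_iff e).mp hr
  have hrg' : ((ρ e j : (S : Subgroup X)) : X) =
      g * ((σ e i : (S : Subgroup X)) : X) * g⁻¹ := hrg
  have ho : orderOf (ρ e j : (S : Subgroup X)) = 2 := by
    rw [← Subgroup.orderOf_coe, hrg']
    have h5 := (MulAut.conj g).orderOf_eq ((σ e i : (S : Subgroup X)) : X)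
    rw [orderOf_σX S e i] at h5
    exact h5
  rw [orderOf_ρ_eq_two e hn] at ho
  subst ho
  rw [hrg']
  exact (isConj_iff.mpr ⟨g, rfl⟩).symm

include S e in
/-- without subgroups of index two, all involutions are conjugate -/
theorem all_isConj_of_no_index_two (hn : 1 ≤ n) (hX : ∀ H : Subgroup X, H.index ≠ 2)
    (a b : X) (ha : orderOf a = 2) (hb : orderOf b = 2) : IsConj a b := by
  have key : ∀ t : X, orderOf t = 2 → IsConj ((ρ e (Mz n) : (S : Subgroup X)) : X) t := by
    intro t ht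
    rcases involution_isConj S e hn t ht with h1 | ⟨i, h1⟩
    · exact h1
    · exact (isConj_ζ_σ_of_no_index_two S e hn hX i).trans h1
  exact (key a ha).symm.trans (key b hb)

/-- a subgroup of `X` containing the two basic reflections contains `S` -/
theorem sylow_le_of_mem (H : Subgroup X) (h0 : ((σ e 0 : (S : Subgroup X)) : X) ∈ H)
    (h1 : ((σ e 1 : (S : Subgroup X)) : X) ∈ H) : (S : Subgroup X) ≤ H := by
  have := eq_top_of_mem e (H.subgroupOf S) (Subgroup.mem_subgroupOf.mpr h0)
    (Subgroup.mem_subgroupOf.mpr h1)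
  intro s hs
  have h2 : (⟨s, hs⟩ : (S : Subgroup X)) ∈ H.subgroupOf S := by rw [this]; trivial
  exact Subgroup.mem_subgroupOf.mp h2

include S e in
/-- if all involutions are conjugate there is no subgroup of index two -/
theorem no_index_two_of_all_isConj (hn : 1 ≤ n)
    (hall : ∀ a b : X, orderOf a = 2 → orderOf b = 2 → IsConj a b) (H : Subgroup X) :
    H.index ≠ 2 := by
  intro hH
  have hnorm : H.Normal := Subgroup.normal_of_index_eq_two hH
  have h4 : 2 ∣ Nat.card H := by
    have h1 : Nat.card (S : Subgroup X) ∣ Nat.card X := Subgroup.card_subgroup_dvd_card _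
    rw [card_eq e] at h1
    have h2 : (4 : ℕ) ∣ 2 ^ (n + 1) := by
      obtain ⟨k, rfl⟩ : ∃ k, n = k + 1 := ⟨n - 1, by omega⟩
      exact ⟨2 ^ k, by ring⟩
    have h3 := Subgroup.card_mul_index H
    rw [hH] at h3
    have h5 : (4 : ℕ) ∣ Nat.card H * 2 := by rw [h3]; exact dvd_trans h2 h1
    omega
  have : Fact (Nat.Prime 2) := ⟨Nat.prime_two⟩
  obtain ⟨t, ht⟩ := exists_prime_orderOf_dvd_card' 2 h4
  have ht' : orderOf (t : X) = 2 := by rw [Subgroup.orderOf_coe, ht]
  have hmem : ∀ b : X, orderOf b = 2 → b ∈ H := by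
    intro b hb
    obtain ⟨c, hc⟩ := isConj_iff.mp (hall (t : X) b ht' hb)
    rw [← hc]
    exact hnorm.conj_mem _ t.2 c
  exact not_sylow_le_of_index_two S H hH
    (sylow_le_of_mem S e H (hmem _ (orderOf_σX S e 0)) (hmem _ (orderOf_σX S e 1)))

include S e in
/-- if all involutions are conjugate there is no isolated involution -/
theorem no_isolated_of_all_isConj (hn : 1 ≤ n)
    (hall : ∀ a b : X, orderOf a = 2 → orderOf b = 2 → IsConj a b) (z : X) :
    ¬ Cfsg.IsIsolatedInvolution z := by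
  intro hz
  obtain ⟨c, hc⟩ := isConj_iff.mp (hall z _ hz.1 (orderOf_ζX S e hn))
  have hζ := isolated_conj hz c
  rw [hc] at hζ
  obtain ⟨d, hd⟩ := isConj_iff.mp (hall _ _ (orderOf_ζX S e hn) (orderOf_σX S e 0))
  have hcomm : Commute ((ρ e (Mz n) : (S : Subgroup X)) : X)
      (d * ((ρ e (Mz n) : (S : Subgroup X)) : X) * d⁻¹) := by
    rw [hd]
    unfold Commute SemiconjBy
    rw [← Subgroup.coe_mul, ← Subgroup.coe_mul, ζ_comm e hn]
  have h1 := hζ.2 d hcomm
  rw [hd] at h1
  exact ρ_ne_σ e _ _ (Subtype.ext h1).symm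

/-- the image in `X` of a four-subgroup `C_S(σ i)` of `S` -/
theorem isKleinFour_map_centralizer_σ (hn : 1 ≤ n) (i : ZMod (2 ^ n)) :
    IsKleinFour ((Subgroup.centralizer ({σ e i} : Set (S : Subgroup X))).map
      (S : Subgroup X).subtype) :=
  isKleinFour_of_mulEquiv
    ((Subgroup.centralizer ({σ e i} : Set (S : Subgroup X))).equivMapOfInjective
      (S : Subgroup X).subtype (Subgroup.subtype_injective _)).symm
    (isKleinFour_centralizer_σ e hn i)

theorem coe_mem_map_centralizer_σ (hn : 1 ≤ n) (i : ZMod (2 ^ n)) (a : (S : Subgroup X)) :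
    (a : X) ∈ (Subgroup.centralizer ({σ e i} : Set (S : Subgroup X))).map
      (S : Subgroup X).subtype ↔
      a = 1 ∨ a = ρ e (Mz n) ∨ a = σ e i ∨ a = σ e (i + Mz n) := by
  rw [← mem_centralizer_σ' e hn i]
  constructor
  · rintro ⟨b, hb, hba⟩
    have : b = a := Subtype.ext hba
    rwa [← this]
  · intro ha
    exact ⟨a, ha, rfl⟩

/-- fusion in the normalizer of a four-group: an odd-order element of `N(T)` outside `C(T)`
permutes the three involutions of `T` cyclically -/
theorem klein_fusion (hn : 1 ≤ n) (T : Subgroup X) (hT : IsKleinFour T)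
    (hTS : T ≤ (S : Subgroup X))
    {g : X} (hgN : g ∈ Subgroup.normalizer (T : Set X)) (hodd : Odd (orderOf g))
    (hgC : g ∉ Subgroup.centralizer (T : Set X)) :
    ∃ i : ZMod (2 ^ n),
      (∀ a : (S : Subgroup X), (a : X) ∈ T ↔
        a = 1 ∨ a = ρ e (Mz n) ∨ a = σ e i ∨ a = σ e (i + Mz n)) ∧
      g * ((ρ e (Mz n) : (S : Subgroup X)) : X) * g⁻¹ = ((σ e i : (S : Subgroup X)) : X) ∧
      g * ((σ e i : (S : Subgroup X)) : X) * g⁻¹ = ((σ e (i + Mz n) : (S : Subgroup X)) : X) := by
  have hM := two_mul_Mz (n := n) hn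
  have hM0 := Mz_ne_zero (n := n) hn
  have : NeZero (2 ^ n) := ⟨by positivity⟩
  obtain ⟨i₀, hT'⟩ := klein_eq e (T.subgroupOf S) (isKleinFour_subgroupOf hTS hT)
  have hmem₀ : ∀ a : (S : Subgroup X), (a : X) ∈ T ↔
      a = 1 ∨ a = ρ e (Mz n) ∨ a = σ e i₀ ∨ a = σ e (i₀ + Mz n) := by
    intro a
    rw [← mem_centralizer_σ' e hn, ← hT', Subgroup.mem_subgroupOf]
  -- general statement for any labelling
  have main : ∀ i : ZMod (2 ^ n),
      (∀ a : (S : Subgroup X), (a : X) ∈ T ↔
        a = 1 ∨ a = ρ e (Mz n) ∨ a = σ e i ∨ a = σ e (i + Mz n)) →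
      g * ((ρ e (Mz n) : (S : Subgroup X)) : X) * g⁻¹ = ((σ e i : (S : Subgroup X)) : X) →
      g * ((σ e i : (S : Subgroup X)) : X) * g⁻¹ =
        ((σ e (i + Mz n) : (S : Subgroup X)) : X) := by
    intro i hmem hζ
    have hσT : ((σ e i : (S : Subgroup X)) : X) ∈ T := (hmem _).mpr (Or.inr (Or.inr (Or.inl rfl)))
    have hσ'T : ((σ e (i + Mz n) : (S : Subgroup X)) : X) ∈ T :=
      (hmem _).mpr (Or.inr (Or.inr (Or.inr rfl)))
    have h1 : g * ((σ e i : (S : Subgroup X)) : X) * g⁻¹ ∈ T :=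
      (Subgroup.mem_normalizer_iff.mp hgN _).mp hσT
    have h2 := (hmem ⟨_, hTS h1⟩).mp h1
    have hne : ∀ a b : X, a ≠ b → g * a * g⁻¹ ≠ g * b * g⁻¹ := by
      intro a b hab h0
      apply hab
      have : a = g⁻¹ * (g * a * g⁻¹) * g := by group
      rw [this, h0]; group
    rcases h2 with h2 | h2 | h2 | h2
    · exfalso
      have h3 := congrArg Subtype.val h2
      simp only [Subgroup.coe_one] at h3
      have h4 : g * ((σ e i : (S : Subgroup X)) : X) * g⁻¹ ≠ g * 1 * g⁻¹ :=
        hne _ _ (fun h0 => σ_ne_one e i (Subtype.ext h0))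
      apply h4
      rw [h3]; group
    · exfalso
      -- then `σ (i + M)` is fixed
      have h3 := congrArg Subtype.val h2
      simp only at h3
      have h5 : g * ((σ e (i + Mz n) : (S : Subgroup X)) : X) * g⁻¹ ∈ T :=
        (Subgroup.mem_normalizer_iff.mp hgN _).mp hσ'T
      have h6 := (hmem ⟨_, hTS h5⟩).mp h5
      have hfix : g * ((σ e (i + Mz n) : (S : Subgroup X)) : X) * g⁻¹ =
          ((σ e (i + Mz n) : (S : Subgroup X)) : X) := by
        rcases h6 with h6 | h6 | h6 | h6
        · exfalso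
          have h7 := congrArg Subtype.val h6
          simp only [Subgroup.coe_one] at h7
          have h4 : g * ((σ e (i + Mz n) : (S : Subgroup X)) : X) * g⁻¹ ≠ g * 1 * g⁻¹ :=
            hne _ _ (fun h0 => σ_ne_one e _ (Subtype.ext h0))
          apply h4
          rw [h7]; group
        · exfalso
          have h7 := congrArg Subtype.val h6
          simp only at h7
          have h4 : g * ((σ e (i + Mz n) : (S : Subgroup X)) : X) * g⁻¹ ≠
              g * ((σ e i : (S : Subgroup X)) : X) * g⁻¹ := by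
            apply hne
            intro h0
            have := (σ_inj e).mp (Subtype.ext h0 : σ e (i + Mz n) = σ e i)
            apply hM0; linear_combination this
          apply h4
          rw [h7, h3]
        · exfalso
          have h7 := congrArg Subtype.val h6
          simp only at h7
          have h4 : g * ((σ e (i + Mz n) : (S : Subgroup X)) : X) * g⁻¹ ≠
              g * ((ρ e (Mz n) : (S : Subgroup X)) : X) * g⁻¹ := by
            apply hne
            intro h0
            exact ρ_ne_σ e _ _ (Subtype.ext h0).symm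
          apply h4
          rw [h7, hζ]
        · exact congrArg Subtype.val h6
      exact hgC (klein_centralizes_of_fix T hT hσ'T
        (fun h0 => σ_ne_one e _ (Subtype.ext h0)) hgN hodd hfix)
    · exfalso
      have h3 := congrArg Subtype.val h2
      simp only at h3
      exact hgC (klein_centralizes_of_fix T hT hσT
        (fun h0 => σ_ne_one e _ (Subtype.ext h0)) hgN hodd h3)
    · exact congrArg Subtype.val h2
  have hzT : ((ρ e (Mz n) : (S : Subgroup X)) : X) ∈ T := (hmem₀ _).mpr (Or.inr (Or.inl rfl))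
  have h1 : g * ((ρ e (Mz n) : (S : Subgroup X)) : X) * g⁻¹ ∈ T :=
    (Subgroup.mem_normalizer_iff.mp hgN _).mp hzT
  have h2 := (hmem₀ ⟨_, hTS h1⟩).mp h1
  have hz1 : ((ρ e (Mz n) : (S : Subgroup X)) : X) ≠ 1 := by
    intro h0
    have : (ρ e (Mz n) : (S : Subgroup X)) = 1 := Subtype.ext h0
    rw [ρ_eq_one] at this
    exact hM0 this
  rcases h2 with h2 | h2 | h2 | h2
  · exfalso
    have h3 := congrArg Subtype.val h2
    simp only [Subgroup.coe_one] at h3
    apply hz1
    have : ((ρ e (Mz n) : (S : Subgroup X)) : X) =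
        g⁻¹ * (g * ((ρ e (Mz n) : (S : Subgroup X)) : X) * g⁻¹) * g := by group
    rw [this, h3]; group
  · exfalso
    have h3 := congrArg Subtype.val h2
    simp only at h3
    exact hgC (klein_centralizes_of_fix T hT hzT hz1 hgN hodd h3)
  · have h3 := congrArg Subtype.val h2
    simp only at h3
    exact ⟨i₀, hmem₀, h3, main i₀ hmem₀ h3⟩
  · have h3 := congrArg Subtype.val h2
    simp only at h3
    have hmem₁ : ∀ a : (S : Subgroup X), (a : X) ∈ T ↔
        a = 1 ∨ a = ρ e (Mz n) ∨ a = σ e (i₀ + Mz n) ∨ a = σ e (i₀ + Mz n + Mz n) := by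
      intro a
      rw [hmem₀ a]
      have e1 : i₀ + Mz n + Mz n = i₀ := by linear_combination hM
      rw [e1]
      tauto
    exact ⟨i₀ + Mz n, hmem₁, h3, main (i₀ + Mz n) hmem₁ h3⟩

/-- if all four-subgroups of `S` have automizers of order divisible by three, then all
involutions are conjugate -/
theorem isConj_ζ_σ_of_three_dvd (hn : 1 ≤ n)
    (h : ∀ U : Subgroup X, U ≤ (S : Subgroup X) → IsKleinFour U →
      3 ∣ (Subgroup.centralizer (U : Set X)).relIndex (Subgroup.normalizer (U : Set X)))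
    (i : ZMod (2 ^ n)) :
    IsConj ((ρ e (Mz n) : (S : Subgroup X)) : X) ((σ e i : (S : Subgroup X)) : X) := by
  have hM := two_mul_Mz (n := n) hn
  have : Fact (Nat.Prime 3) := ⟨Nat.prime_three⟩
  have hU := isKleinFour_map_centralizer_σ S e hn i
  have hUS : (Subgroup.centralizer ({σ e i} : Set (S : Subgroup X))).map
      (S : Subgroup X).subtype ≤ (S : Subgroup X) := Subgroup.map_subtype_le _
  obtain ⟨g, hgN, ⟨k, hk⟩, hgC⟩ := exists_prime_pow_not_mem_of_dvd_relIndex (q := 3) _ _
    (h _ hUS hU)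
  have hodd : Odd (orderOf g) := by rw [hk]; exact Odd.pow (by decide)
  obtain ⟨j, hmem, h1, h2⟩ := klein_fusion S e hn _ hU hUS hgN hodd hgC
  have hi : ((σ e i : (S : Subgroup X)) : X) ∈
      (Subgroup.centralizer ({σ e i} : Set (S : Subgroup X))).map (S : Subgroup X).subtype :=
    (coe_mem_map_centralizer_σ S e hn i _).mpr (Or.inr (Or.inr (Or.inl rfl)))
  have c1 : IsConj ((ρ e (Mz n) : (S : Subgroup X)) : X) ((σ e j : (S : Subgroup X)) : X) :=
    isConj_iff.mpr ⟨g, h1⟩
  have c2 : IsConj ((σ e j : (S : Subgroup X)) : X) ((σ e (j + Mz n) : (S : Subgroup X)) : X) :=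
    isConj_iff.mpr ⟨g, h2⟩
  rcases (hmem _).mp hi with h3 | h3 | h3 | h3
  · exact absurd h3 (σ_ne_one e i)
  · exact absurd h3.symm (ρ_ne_σ e _ _)
  · rw [h3]; exact c1
  · rw [h3]; exact c1.trans c2

include S e in
theorem all_isConj_of_three_dvd (hn : 1 ≤ n)
    (h : ∀ U : Subgroup X, U ≤ (S : Subgroup X) → IsKleinFour U →
      3 ∣ (Subgroup.centralizer (U : Set X)).relIndex (Subgroup.normalizer (U : Set X)))
    (a b : X) (ha : orderOf a = 2) (hb : orderOf b = 2) : IsConj a b := by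
  have key : ∀ t : X, orderOf t = 2 → IsConj ((ρ e (Mz n) : (S : Subgroup X)) : X) t := by
    intro t ht
    rcases involution_isConj S e hn t ht with h1 | ⟨i, h1⟩
    · exact h1
    · exact (isConj_ζ_σ_of_three_dvd S e hn h i).trans h1
  exact (key a ha).symm.trans (key b hb)

end GLevel

end Cfsg.Agent.Lib.Helper9.Dih
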