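import Mathlib
import Cfsg.Agent.Lib.Helper9.Dih.Basic
import Cfsg.Agent.Lib.Helper9.QD.Klein
import Cfsg.Prelude.Def_Transfer

set_option autoImplicit false
set_option linter.unusedSectionVars false

/-!
# Elementary abelian subgroups of order 8 in central extensions of dihedral groups
-/

namespace Cfsg.Agent.Lib.Helper9.Dih

/-- a group of order four in which every element squares to one is a four-group -/
theorem isKleinFour_of_card_of_sq {G : Type*} [Group G] (hc : Nat.card G = 4)
    (hsq : ∀ g : G, g * g = 1) : IsKleinFour G := by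
  have : Finite G := Nat.finite_of_card_ne_zero (by rw [hc]; norm_num)
  have : Nontrivial G := by
    rw [← Finite.one_lt_card_iff_nontrivial, hc]; norm_num
  refine ⟨hc, ?_⟩
  rw [Monoid.exponent_eq_prime_iff Nat.prime_two]
  intro g hg
  apply orderOf_eq_prime
  · rw [pow_two]; exact hsq g
  · exact hg

variable {R : Type*} [Group R] [Finite R]

/-- if four-subgroups of `R ⧸ ⟨t⟩` are self-centralizing, then elementary abelian subgroups of
order `8` of `R` containing `t` are self-centralizing -/
theorem centralizer_eq_of_quotient (t : R) (ht : orderOf t = 2) [(Subgroup.zpowers t).Normal]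
    (hQ : ∀ T : Subgroup (R ⧸ Subgroup.zpowers t), IsKleinFour T →
      Subgroup.centralizer (T : Set (R ⧸ Subgroup.zpowers t)) = T)
    (A : Subgroup R) (hA : Cfsg.IsElementaryAbelian 2 A) (hA8 : Nat.card A = 8) (htA : t ∈ A) :
    Subgroup.centralizer (A : Set R) = A := by
  obtain ⟨hAc, hA2⟩ := hA
  have hNA : Subgroup.zpowers t ≤ A := by
    rw [Subgroup.zpowers_le]; exact htA
  set π := QuotientGroup.mk' (Subgroup.zpowers t) with hπ
  -- the image of `A`
  have hcard : Nat.card (A.map π) = 4 := by
    set f : A →* (R ⧸ Subgroup.zpowers t) := π.comp A.subtype with hf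
    have hr : f.range = A.map π := by
      rw [hf, MonoidHom.range_comp, Subgroup.range_subtype]
    have hk : f.ker = (Subgroup.zpowers t).subgroupOf A := by
      ext a
      rw [MonoidHom.mem_ker, Subgroup.mem_subgroupOf, hf, MonoidHom.comp_apply, hπ,
        QuotientGroup.mk'_apply, QuotientGroup.eq_one_iff]
      rfl
    have h1 := Subgroup.card_mul_index f.ker
    rw [Subgroup.index_ker, hr, hk, Nat.card_congr (Subgroup.subgroupOfEquivOfLe hNA).toEquiv,
      Nat.card_zpowers, ht, hA8] at h1
    omega
  have hsq : ∀ g : A.map π, g * g = 1 := by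
    rintro ⟨_, a, ha, rfl⟩
    apply Subtype.ext
    simp only [Subgroup.coe_mul, Subgroup.coe_one]
    rw [← map_mul, ← pow_two, hA2 a ha, map_one]
  have hK : IsKleinFour (A.map π) := isKleinFour_of_card_of_sq hcard hsq
  have hC := hQ _ hK
  apply le_antisymm
  · intro g hg
    have h1 : π g ∈ Subgroup.centralizer ((A.map π : Subgroup _) : Set (R ⧸ Subgroup.zpowers t)) := by
      rw [Subgroup.mem_centralizer_iff]
      rintro _ ⟨a, ha, rfl⟩
      rw [← map_mul, ← map_mul, Subgroup.mem_centralizer_iff.mp hg a ha]
    rw [hC] at h1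
    obtain ⟨a, ha, hag⟩ := h1
    have h2 : a⁻¹ * g ∈ Subgroup.zpowers t := by
      rw [← QuotientGroup.eq]
      exact hag
    have : g = a * (a⁻¹ * g) := by group
    rw [this]
    exact A.mul_mem ha (hNA h2)
  · intro g hg
    rw [Subgroup.mem_centralizer_iff]
    intro a ha
    have := hAc.is_comm.comm (⟨a, ha⟩ : A) ⟨g, hg⟩
    exact congrArg Subtype.val this

end Cfsg.Agent.Lib.Helper9.Dih
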