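import Mathlib
import Cfsg.Agent.Lib.Helper9.Dih.Sylow
import Cfsg.Agent.Lib.Helper9.QD.Sylow
import Cfsg.Agent.Lib.Helper9.FusionInv

set_option autoImplicit false
set_option linter.unusedSectionVars false

/-!
# Groups with dihedral Sylow 2-subgroups: classes of four-subgroups
-/

namespace Cfsg.Agent.Lib.Helper9.Dih

open DihedralGroup

open Cfsg.Agent.Lib.Helper9

open Cfsg.Agent.Lib.Helper9.QD (Mz Kz two_mul_Mz two_mul_Kz Mz_ne_zero Mz_mul_Mz Mz_mul_even
  Mz_mul_odd even_or_odd mem_centralizer_singleton map_conj_centralizer_singleton)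

section SLevel

variable {S : Type*} [Group S] {n : ℕ} (e : S ≃* DihedralGroup (2 ^ n))

/-- conjugation preserves the parity of a reflection -/
theorem conj_σ_parity (hn : 1 ≤ n) (s : S) (i : ZMod (2 ^ n)) :
    ∃ j, s * σ e i * s⁻¹ = σ e j ∧ Mz n * j = Mz n * i := by
  have hM := two_mul_Mz (n := n) hn
  rcases cases e s with ⟨a, rfl⟩ | ⟨k, rfl⟩
  · exact ⟨_, conj_ρ_σ e a i, by linear_combination (-a) * hM⟩
  · exact ⟨_, conj_σ_σ e k i, by linear_combination (k - i) * hM⟩

end SLevel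

/-- conjugation by a centralizing element fixes every subgroup -/
theorem conjMap_eq_of_mem_centralizer {G : Type*} [Group G] {U T : Subgroup G} (hTU : T ≤ U)
    {g : G} (hg : g ∈ Subgroup.centralizer (U : Set G)) :
    T.map (MulAut.conj g).toMonoidHom = T := by
  rw [Subgroup.mem_centralizer_iff] at hg
  ext x
  rw [mem_conjMap]
  constructor
  · intro hx
    have h1 := hg _ (hTU hx)
    have : x = g * (g⁻¹ * x * g) * g⁻¹ := by group
    rw [this, ← h1]
    simpa using hx
  · intro hx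
    have h1 := hg _ (hTU hx)
    have : g⁻¹ * x * g = g⁻¹ * (x * g) := by group
    rw [this, h1]
    simpa using hx

section GLevel

variable {X : Type*} [Group X] [Finite X] (S : Sylow 2 X) {n : ℕ}
  (e : (S : Subgroup X) ≃* DihedralGroup (2 ^ n))

/-- the four-subgroup `C_S(σ i)`, as a subgroup of `X` -/
def UX (i : ZMod (2 ^ n)) : Subgroup X :=
  (Subgroup.centralizer ({σ e i} : Set (S : Subgroup X))).map (S : Subgroup X).subtype

theorem UX_le (i : ZMod (2 ^ n)) : UX S e i ≤ (S : Subgroup X) := Subgroup.map_subtype_le _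

theorem isKleinFour_UX (hn : 1 ≤ n) (i : ZMod (2 ^ n)) : IsKleinFour (UX S e i) :=
  isKleinFour_map_centralizer_σ S e hn i

theorem coe_mem_UX (hn : 1 ≤ n) (i : ZMod (2 ^ n)) (a : (S : Subgroup X)) :
    (a : X) ∈ UX S e i ↔ a = 1 ∨ a = ρ e (Mz n) ∨ a = σ e i ∨ a = σ e (i + Mz n) :=
  coe_mem_map_centralizer_σ S e hn i a

theorem UX_subgroupOf (i : ZMod (2 ^ n)) :
    (UX S e i).subgroupOf (S : Subgroup X) = Subgroup.centralizer ({σ e i} : Set (S : Subgroup X)) :=
  Subgroup.comap_map_eq_self_of_injective (Subgroup.subtype_injective _) _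

/-- `C_S(σ (i + 2 c))` is conjugate to `C_S(σ i)` under `ρ c` -/
theorem conjMap_UX (i c : ZMod (2 ^ n)) :
    (UX S e (i + 2 * c)).map (MulAut.conj ((ρ e c : (S : Subgroup X)) : X)).toMonoidHom =
      UX S e i := by
  apply conjMap_eq_of_subgroupOf (UX_le S e _) (UX_le S e _)
  rw [UX_subgroupOf, UX_subgroupOf, map_conj_centralizer_singleton, conj_ρ_σ]
  congr 3
  ring

/-- every four-subgroup of `X` is conjugate to some `C_S(σ i)` -/
theorem exists_conjMap_eq_UX (V : Subgroup X) (hV : IsKleinFour V) :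
    ∃ x : X, ∃ i : ZMod (2 ^ n), V.map (MulAut.conj x).toMonoidHom = UX S e i := by
  have : Fact (Nat.Prime 2) := ⟨Nat.prime_two⟩
  have : NeZero (2 ^ n) := ⟨by positivity⟩
  have hV2 : IsPGroup 2 V := IsPGroup.of_card (n := 2) (by rw [hV.card_four]; norm_num)
  obtain ⟨k, hk⟩ := exists_le_conjMap_sylow S hV2
  have hV' : V.map (MulAut.conj k⁻¹).toMonoidHom ≤ (S : Subgroup X) := by
    rw [conjMap_le_iff, inv_inv]; exact hk
  have hK' : IsKleinFour (V.map (MulAut.conj k⁻¹).toMonoidHom) :=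
    isKleinFour_of_mulEquiv (V.equivMapOfInjective _ (MulAut.conj k⁻¹).injective).symm hV
  obtain ⟨i, hi⟩ := klein_eq e _ (isKleinFour_subgroupOf hV' hK')
  refine ⟨k⁻¹, i, ?_⟩
  unfold UX
  rw [← hi, Subgroup.map_subgroupOf_eq_of_le hV']

/-- every four-subgroup of `X` is conjugate to `C_S(σ 0)` or to `C_S(σ 1)` -/
theorem conj_UX_zero_or_one (V : Subgroup X) (hV : IsKleinFour V) :
    (∃ x : X, V.map (MulAut.conj x).toMonoidHom = UX S e 0) ∨
    (∃ x : X, V.map (MulAut.conj x).toMonoidHom = UX S e 1) := by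
  obtain ⟨x, i, hx⟩ := exists_conjMap_eq_UX S e V hV
  rcases even_or_odd i with ⟨j, rfl⟩ | ⟨j, rfl⟩
  · left
    refine ⟨((ρ e j : (S : Subgroup X)) : X) * x, ?_⟩
    rw [conjMap_mul, hx]
    have := conjMap_UX S e 0 j
    rwa [zero_add] at this
  · right
    refine ⟨((ρ e j : (S : Subgroup X)) : X) * x, ?_⟩
    rw [conjMap_mul, hx]
    have := conjMap_UX S e 1 j
    rwa [add_comm] at this

/-- for `|S| > 4`, the two classes of four-subgroups are not fused in `X` -/
theorem not_conj_UX (hn : 2 ≤ n) :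
    ¬ ∃ x : X, (UX S e 0).map (MulAut.conj x).toMonoidHom = UX S e 1 := by
  have hn1 : 1 ≤ n := by omega
  have : Fact (Nat.Prime 2) := ⟨Nat.prime_two⟩
  rintro ⟨x, hx⟩
  have hS : ∀ s ∈ (S : Subgroup X), ∀ T : Subgroup X, T ≤ (S : Subgroup X) →
      (∃ s' ∈ (S : Subgroup X), T.map (MulAut.conj s').toMonoidHom = UX S e 0) →
      (∃ s' ∈ (S : Subgroup X), (T.map (MulAut.conj s).toMonoidHom).map
        (MulAut.conj s').toMonoidHom = UX S e 0) := by
    rintro s hs T - ⟨s', hs', h1⟩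
    refine ⟨s' * s⁻¹, Subgroup.mul_mem _ hs' (Subgroup.inv_mem _ hs), ?_⟩
    rw [← conjMap_mul, inv_mul_cancel_right, h1]
  have hloc : ∀ U : Subgroup X, U ≤ (S : Subgroup X) →
      (S : Subgroup X) ⊓ Subgroup.centralizer (U : Set X) ≤ U →
      ¬ 2 ∣ ((S : Subgroup X) ⊓ Subgroup.normalizer (U : Set X)).relIndex
        (Subgroup.normalizer (U : Set X)) →
      ∀ g ∈ Subgroup.normalizer (U : Set X), (orderOf g).Coprime 2 →
      ∀ T : Subgroup X, T ≤ U →
      (∃ s' ∈ (S : Subgroup X), T.map (MulAut.conj s').toMonoidHom = UX S e 0) →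
      (∃ s' ∈ (S : Subgroup X), (T.map (MulAut.conj g).toMonoidHom).map
        (MulAut.conj s').toMonoidHom = UX S e 0) := by
    intro U hUS _ _ g hg hcop T hTU hΦ
    have : Finite (S : Subgroup X) := inferInstance
    have hfix : T.map (MulAut.conj g).toMonoidHom = T := by
      rcases subgroup_dichotomy e hn1 (U.subgroupOf S) with hK | hA
      · have hK' : IsKleinFour U := isKleinFour_of_subgroupOf hUS hK
        obtain ⟨s', _, h1⟩ := hΦ
        have hcT : Nat.card T = 4 := by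
          rw [← card_conjMap T s', h1, (isKleinFour_UX S e hn1 0).card_four]
        have hTU' : T = U := Subgroup.eq_of_le_of_card_ge hTU (by rw [hcT, hK'.card_four])
        rw [hTU']
        exact conjMap_eq_self_of_mem_normalizer hg
      · have hgC := mem_centralizer_of_isPGroup_mulAut U
          (isPGroup_mulAut_of_subgroupOf hUS hA) hg hcop
        exact conjMap_eq_of_mem_centralizer hTU hgC
    rw [hfix]; exact hΦ
  have h1 := fusion_invariant_subgroup S
    (fun T => ∃ s' ∈ (S : Subgroup X), T.map (MulAut.conj s').toMonoidHom = UX S e 0)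
    hS hloc (UX S e 0) (UX_le S e 0) x (by rw [hx]; exact UX_le S e 1)
    ⟨1, Subgroup.one_mem _, conjMap_one _⟩
  rw [hx] at h1
  obtain ⟨s, hs, h2⟩ := h1
  -- `s σ₁ s⁻¹ ∈ C_S(σ₀)` contradicts parity
  have h3 : ((σ e 1 : (S : Subgroup X)) : X) ∈ UX S e 1 :=
    (coe_mem_UX S e hn1 1 _).mpr (Or.inr (Or.inr (Or.inl rfl)))
  have h4 : s * ((σ e 1 : (S : Subgroup X)) : X) * s⁻¹ ∈ UX S e 0 := by
    rw [← h2]; exact conj_mem_conjMap h3
  obtain ⟨j, hj, hpar⟩ := conj_σ_parity e hn1 ⟨s, hs⟩ 1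
  have h5 : ((σ e j : (S : Subgroup X)) : X) ∈ UX S e 0 := by
    rw [← hj]; simpa using h4
  rw [mul_one] at hpar
  have hM0 := Mz_ne_zero (n := n) hn1
  rcases (coe_mem_UX S e hn1 0 _).mp h5 with h6 | h6 | h6 | h6
  · exact σ_ne_one e j h6
  · exact ρ_ne_σ e _ _ h6.symm
  · rw [σ_inj] at h6
    rw [h6, mul_zero] at hpar
    exact hM0 hpar.symm
  · rw [σ_inj] at h6
    rw [h6, zero_add, Mz_mul_Mz hn] at hpar
    exact hM0 hpar.symm

/-- for `|S| = 4` all four-subgroups of `X` are conjugate -/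
theorem conj_of_card_four (hS4 : Nat.card (S : Subgroup X) = 4) (U V : Subgroup X)
    (hU : IsKleinFour U) (hV : IsKleinFour V) :
    ∃ x : X, U.map (MulAut.conj x).toMonoidHom = V := by
  have : Fact (Nat.Prime 2) := ⟨Nat.prime_two⟩
  have key : ∀ W : Subgroup X, IsKleinFour W →
      ∃ k : X, W = (S : Subgroup X).map (MulAut.conj k).toMonoidHom := by
    intro W hW
    have hW2 : IsPGroup 2 W := IsPGroup.of_card (n := 2) (by rw [hW.card_four]; norm_num)
    obtain ⟨k, hk⟩ := exists_le_conjMap_sylow S hW2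
    exact ⟨k, Subgroup.eq_of_le_of_card_ge hk (by rw [card_conjMap, hS4, hW.card_four])⟩
  obtain ⟨k, hk⟩ := key U hU
  obtain ⟨k', hk'⟩ := key V hV
  refine ⟨k' * k⁻¹, ?_⟩
  rw [hk, hk', ← conjMap_mul, inv_mul_cancel_right]

end GLevel

end Cfsg.Agent.Lib.Helper9.Dih
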