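import Mathlib
import Cfsg.Agent.Lib.Helper9.Dih.Sylow
import Cfsg.Agent.Lib.Helper9.QD.Sylow

set_option autoImplicit false
set_option linter.unusedSectionVars false

/-!
# Groups with dihedral Sylow 2-subgroups: normal 2-complements
-/

namespace Cfsg.Agent.Lib.Helper9.Dih

open DihedralGroup

open Cfsg.Agent.Lib.Helper9

open Cfsg.Agent.Lib.Helper9.QD (Mz Kz two_mul_Mz two_mul_Kz Mz_ne_zero eq_zero_or_eq_Mz_of_two_mul
  neg_Mz orderOf_eq_two_iff' mem_centralizer_singleton isConj_coe not_sylow_le_of_index_two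
  exists_odd_not_mem_of_relIndex_six)

/-- a `p'`-element of `C_G(Q) ⊔ P`, where `P ≤ N_G(Q)` is a `p`-group, centralizes `Q` -/
theorem mem_centralizer_of_mem_sup_pgroup {G : Type*} [Group G] {p : ℕ} [Fact p.Prime]
    (Q P : Subgroup G) (hP : IsPGroup p P) (hPN : P ≤ Subgroup.normalizer (Q : Set G))
    {g : G} (hg : g ∈ Subgroup.centralizer (Q : Set G) ⊔ P)
    (hcop : (orderOf g).Coprime p) : g ∈ Subgroup.centralizer (Q : Set G) := by
  have hCN : Subgroup.centralizer (Q : Set G) ≤ Subgroup.normalizer (Q : Set G) :=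
    Subgroup.centralizer_le_normalizer _
  have hnorm : P ≤ Subgroup.normalizer
      ((Subgroup.centralizer (Q : Set G) : Subgroup G) : Set G) := by
    intro x hx
    have h1 : x ∈ Subgroup.normalizer (Q : Set G) := hPN hx
    rw [Subgroup.mem_normalizer_iff]
    intro c
    have key : ∀ (y : G), y ∈ Subgroup.normalizer (Q : Set G) → ∀ c ∈ Subgroup.centralizer (Q : Set G),
        y * c * y⁻¹ ∈ Subgroup.centralizer (Q : Set G) := by
      intro y hy c hc
      rw [Subgroup.mem_centralizer_iff] at hc ⊢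
      intro q hq
      have h2 : y⁻¹ * q * y ∈ Q := by
        have := (Subgroup.mem_normalizer_iff.mp ((Subgroup.normalizer (Q : Set G)).inv_mem hy) q).mp hq
        rwa [inv_inv] at this
      have h3 := hc _ h2
      calc q * (y * c * y⁻¹) = y * ((y⁻¹ * q * y) * c) * y⁻¹ := by group
        _ = y * (c * (y⁻¹ * q * y)) * y⁻¹ := by rw [h3]
        _ = y * c * y⁻¹ * q := by group
    constructor
    · exact key x h1 c
    · intro hc
      have := key x⁻¹ ((Subgroup.normalizer (Q : Set G)).inv_mem h1) _ hc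
      have e2 : x⁻¹ * (x * c * x⁻¹) * x⁻¹⁻¹ = c := by group
      rwa [e2] at this
  obtain ⟨c, hc, q, hq, rfl⟩ := (mem_sup_of_le_normalizer hnorm).mp hg
  have hgN : c * q ∈ Subgroup.normalizer (Q : Set G) :=
    Subgroup.mul_mem _ (hCN hc) (hPN hq)
  set α : MulAut Q := Q.normalizerMonoidHom ⟨c * q, hgN⟩ with hα
  have hαq : α = Q.normalizerMonoidHom ⟨q, hPN hq⟩ := by
    have h1 : (⟨c * q, hgN⟩ : Subgroup.normalizer (Q : Set G)) = ⟨c, hCN hc⟩ * ⟨q, hPN hq⟩ := rfl
    have h2 : Q.normalizerMonoidHom ⟨c, hCN hc⟩ = 1 := by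
      rw [← MonoidHom.mem_ker, Subgroup.normalizerMonoidHom_ker, Subgroup.mem_subgroupOf]
      exact hc
    rw [hα, h1, map_mul, h2, one_mul]
  obtain ⟨k, hk⟩ := hP ⟨q, hq⟩
  have hk' : q ^ p ^ k = 1 := by simpa using congrArg Subtype.val hk
  have h1 : α ^ p ^ k = 1 := by
    rw [hαq, ← map_pow]
    have : (⟨q, hPN hq⟩ : Subgroup.normalizer (Q : Set G)) ^ p ^ k = 1 := by
      apply Subtype.ext
      simpa using hk'
    rw [this, map_one]
  have h2 : α ^ orderOf (c * q) = 1 := by
    rw [hα, ← map_pow]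
    have : (⟨c * q, hgN⟩ : Subgroup.normalizer (Q : Set G)) ^ orderOf (c * q) = 1 := by
      apply Subtype.ext
      simp [pow_orderOf_eq_one]
    rw [this, map_one]
  have h3 : orderOf α = 1 := by
    have hc' : (orderOf (c * q)).Coprime (p ^ k) := Nat.Coprime.pow_right k hcop
    exact Nat.eq_one_of_dvd_coprimes hc' (orderOf_dvd_of_pow_eq_one h2) (orderOf_dvd_of_pow_eq_one h1)
  have h4 : α = 1 := orderOf_eq_one_iff.mp h3
  have h5 : (⟨c * q, hgN⟩ : Subgroup.normalizer (Q : Set G)) ∈ Q.normalizerMonoidHom.ker := by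
    rw [MonoidHom.mem_ker]; exact h4
  rw [Subgroup.normalizerMonoidHom_ker, Subgroup.mem_subgroupOf] at h5
  exact h5

section GLevel

variable {X : Type*} [Group X] [Finite X] (S : Sylow 2 X) {n : ℕ}
  (e : (S : Subgroup X) ≃* DihedralGroup (2 ^ n))

include e in
/-- if the automizers of all four-subgroups of `S` are induced by `S`, then `X` has a normal
`2`-complement -/
theorem localCentral_of_klein (hn : 1 ≤ n)
    (h : ∀ U : Subgroup X, U ≤ (S : Subgroup X) → IsKleinFour U →
      Subgroup.normalizer (U : Set X) = Subgroup.centralizer (U : Set X) ⊔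
        ((S : Subgroup X) ⊓ Subgroup.normalizer (U : Set X))) :
    Cfsg.Agent.Lib.Helper13.LocalCentral 2 X := by
  have : Fact (Nat.Prime 2) := ⟨Nat.prime_two⟩
  apply Cfsg.Agent.Lib.Helper13.localCentral_of_sylow S
  intro Q hQS g hg hcop
  have : Finite (S : Subgroup X) := inferInstance
  rcases subgroup_dichotomy e hn (Q.subgroupOf S) with hK | hA
  · have hK' : IsKleinFour Q := isKleinFour_of_subgroupOf hQS hK
    have h1 := h Q hQS hK'
    rw [h1] at hg
    exact mem_centralizer_of_mem_sup_pgroup Q _ (S.2.to_le inf_le_left) inf_le_right hg hcop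
  · exact mem_centralizer_of_isPGroup_mulAut Q (isPGroup_mulAut_of_subgroupOf hQS hA) hg hcop

include e in
/-- for `n ≥ 2`, the rotation of order four normalizes but does not centralize any
four-subgroup of `S` -/
theorem exists_mem_normalizer_not_mem_centralizer (hn : 2 ≤ n) (U : Subgroup X)
    (hUS : U ≤ (S : Subgroup X)) (hU : IsKleinFour U) :
    ∃ b ∈ (S : Subgroup X) ⊓ Subgroup.normalizer (U : Set X),
      b ∉ Subgroup.centralizer (U : Set X) := by
  have hn1 : 1 ≤ n := by omega
  have hM := two_mul_Mz (n := n) hn1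
  have hM0 := Mz_ne_zero (n := n) hn1
  have : NeZero (2 ^ n) := ⟨by positivity⟩
  obtain ⟨i, hT'⟩ := klein_eq e (U.subgroupOf S) (isKleinFour_subgroupOf hUS hU)
  have hmem : ∀ a : (S : Subgroup X), (a : X) ∈ U ↔
      a = 1 ∨ a = ρ e (Mz n) ∨ a = σ e i ∨ a = σ e (i + Mz n) := by
    intro a
    rw [← mem_centralizer_σ' e hn1, ← hT', Subgroup.mem_subgroupOf]
  have hconj : ∀ a : (S : Subgroup X), (a : X) ∈ U →
      ((ρ e (Kz n) * a * (ρ e (Kz n))⁻¹ : (S : Subgroup X)) : X) ∈ U := by
    intro a ha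
    rcases (hmem a).mp ha with rfl | rfl | rfl | rfl
    · rw [(hmem _)]; left; group
    · rw [(hmem _), conj_ρ_ρ]; right; left; rfl
    · rw [(hmem _), conj_Kz e hn]; right; right; right; rfl
    · rw [(hmem _), conj_Kz e hn]; right; right; left
      congr 1; linear_combination hM
  refine ⟨((ρ e (Kz n) : (S : Subgroup X)) : X), ⟨SetLike.coe_mem _, ?_⟩, ?_⟩
  · apply mem_normalizer_of_conjMap_eq_self
    apply conjMap_eq_of_le
    rintro _ ⟨u, hu, rfl⟩
    have := hconj ⟨u, hUS hu⟩ hu
    simpa using this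
  · intro hc
    rw [Subgroup.mem_centralizer_iff] at hc
    have hσU : ((σ e i : (S : Subgroup X)) : X) ∈ U := (hmem _).mpr (Or.inr (Or.inr (Or.inl rfl)))
    have h1 := hc _ hσU
    rw [← Subgroup.coe_mul, ← Subgroup.coe_mul] at h1
    have h2 : σ e i * ρ e (Kz n) = ρ e (Kz n) * σ e i := Subtype.ext h1
    have h3 : ρ e (Kz n) * σ e i * (ρ e (Kz n))⁻¹ = σ e i := by
      rw [← h2, mul_inv_cancel_right]
    rw [conj_Kz e hn, σ_inj] at h3
    apply hM0; linear_combination h3

include e in
/-- in a group with a normal `2`-complement, the automizers of four-subgroups of `S` are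
induced by `S` -/
theorem normalizer_eq_of_localCentral (hn : 1 ≤ n)
    (hLC : Cfsg.Agent.Lib.Helper13.LocalCentral 2 X) (U : Subgroup X)
    (hUS : U ≤ (S : Subgroup X)) (hU : IsKleinFour U) :
    Subgroup.normalizer (U : Set X) = Subgroup.centralizer (U : Set X) ⊔
      ((S : Subgroup X) ⊓ Subgroup.normalizer (U : Set X)) := by
  have : Fact (Nat.Prime 2) := ⟨Nat.prime_two⟩
  have : Fact (Nat.Prime 3) := ⟨Nat.prime_three⟩
  apply le_antisymm _ (sup_le (Subgroup.centralizer_le_normalizer _) inf_le_right)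
  have h6 := AutIndex.relIndex_dvd_six_of_kleinFour U hU
  have h3 : ¬ 3 ∣ (Subgroup.centralizer (U : Set X)).relIndex
      (Subgroup.normalizer (U : Set X)) := by
    intro h
    obtain ⟨g, hgN, ⟨k, hk⟩, hgC⟩ := exists_prime_pow_not_mem_of_dvd_relIndex (q := 3) _ _ h
    apply hgC
    apply hLC U (S.2.to_le hUS) g hgN
    rw [hk]
    exact Nat.Coprime.pow_left k (by decide)
  have h12 : (Subgroup.centralizer (U : Set X)).relIndex (Subgroup.normalizer (U : Set X)) = 1 ∨
      (Subgroup.centralizer (U : Set X)).relIndex (Subgroup.normalizer (U : Set X)) = 2 := by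
    generalize (Subgroup.centralizer (U : Set X)).relIndex (Subgroup.normalizer (U : Set X)) = d
      at h6 h3
    have hle : d ≤ 6 := Nat.le_of_dvd (by norm_num) h6
    interval_cases d <;> simp_all
  rcases h12 with h1 | h2
  · rw [Subgroup.relIndex_eq_one] at h1
    exact h1.trans le_sup_left
  · -- `n ≥ 2`
    have hn2 : 2 ≤ n := by
      by_contra hlt
      have hn1 : n = 1 := by omega
      subst hn1
      -- `U = S`
      have hUeq : U = (S : Subgroup X) := by
        apply Subgroup.eq_of_le_of_card_ge hUS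
        rw [hU.card_four, card_eq e]; norm_num
      have hSC : (S : Subgroup X) ≤ Subgroup.centralizer (U : Set X) := by
        rw [← hUeq]
        intro s hs
        rw [Subgroup.mem_centralizer_iff]
        intro t ht
        exact Wr.comm_of_isKleinFour U hU ht hs
      have hSN : (S : Subgroup X) ≤ Subgroup.normalizer (U : Set X) :=
        hSC.trans (Subgroup.centralizer_le_normalizer _)
      have h4 := Subgroup.relIndex_dvd_of_le_left (Subgroup.normalizer (U : Set X)) hSC
      rw [h2] at h4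
      have h5 : (S : Subgroup X).relIndex (Subgroup.normalizer (U : Set X)) ∣
          (S : Subgroup X).index := Dvd.intro _ (Subgroup.relIndex_mul_index hSN)
      exact S.not_dvd_index (dvd_trans h4 h5)
    obtain ⟨b, hb, hbC⟩ := exists_mem_normalizer_not_mem_centralizer S e hn2 U hUS hU
    intro g hg
    by_cases hgC : g ∈ Subgroup.centralizer (U : Set X)
    · exact Subgroup.mem_sup_left hgC
    · have h5 := (IndexTwo.mul_mem_iff_of_relIndex_two h2 hg hb.2).mpr
        (iff_of_false hgC hbC)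
      have : g = (g * b) * b⁻¹ := by group
      rw [this]
      exact Subgroup.mul_mem _ (Subgroup.mem_sup_left h5)
        (Subgroup.mem_sup_right (Subgroup.inv_mem _ hb))

end GLevel

end Cfsg.Agent.Lib.Helper9.Dih
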